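import Groth.Agent.FittLib.Comap
import Mathlib

/-!
Ideal sheaves: locality, pullback of intersections, finite presentation, minimal points.
-/

set_option autoImplicit false
set_option linter.style.haveILetI false

universe u

open CategoryTheory CategoryTheory.Limits AlgebraicGeometry TopologicalSpace

namespace Groth.Agent.GrpdFit

variable {X Y : Scheme.{u}}

theorem comap_inf_of_isOpenImmersion (I J : Y.IdealSheafData) (f : X ⟶ Y) [IsOpenImmersion f] :
    (I ⊓ J).comap f = I.comap f ⊓ J.comap f := by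
  refine Scheme.IdealSheafData.ext (funext fun U => ?_)
  simp only [Scheme.IdealSheafData.ideal_comap_of_isOpenImmersion, Scheme.IdealSheafData.ideal_inf, Pi.inf_apply,
    Ideal.comap_inf]

theorem comap_fromSpec_eq (I : X.IdealSheafData) {A : X.Opens} (hA : IsAffineOpen A) :
    I.comap hA.fromSpec = (I.comap A.ι).comap hA.isoSpec.inv := by
  rw [← Scheme.IdealSheafData.comap_comp, hA.isoSpec_inv_ι]

theorem eq_of_comap_opens {ι : Type*} (V : ι → X.Opens) (hV : ⨆ i, V i = ⊤) (I J : X.IdealSheafData)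
    (h : ∀ i, I.comap (V i).ι = J.comap (V i).ι) : I = J := by
  choose i hi using fun x : X => Opens.mem_iSup.1 (hV.ge (show x ∈ (⊤ : X.Opens) from trivial))
  choose A hA hxA hAV using fun x => exists_isAffineOpen_mem_and_subset (hi x)
  refine Scheme.IdealSheafData.ext_of_iSup_eq_top (fun x => ⟨A x, hA x⟩)
    (eq_top_iff.mpr fun x _ => Opens.mem_iSup.mpr ⟨x, hxA x⟩) fun x => ?_
  refine FittLib.idealSpec_injective Γ(X, A x) ?_
  rw [← FittLib.comap_fromSpec, ← FittLib.comap_fromSpec, comap_fromSpec_eq, comap_fromSpec_eq,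
    ← Scheme.homOfLE_ι X (hAV x), Scheme.IdealSheafData.comap_comp, Scheme.IdealSheafData.comap_comp _ _ (V (i x)).ι,
    h]

theorem lfp_subschemeι (I : X.IdealSheafData)
    (h : ∀ x : X, ∃ U : X.affineOpens, x ∈ U.1 ∧ (I.ideal U).FG) : LocallyOfFinitePresentation I.subschemeι := by
  choose U hxU hU using h
  refine (IsZariskiLocalAtTarget.iff_of_iSup_eq_top (P := @LocallyOfFinitePresentation) (fun x => (U x).1)
    (eq_top_iff.mpr fun x _ => Opens.mem_iSup.mpr ⟨x, hxU x⟩)).2 fun x => ?_
  let q : Spec (CommRingCat.of (Γ(X, (U x).1) ⧸ I.ideal (U x))) ⟶ Spec Γ(X, (U x).1) :=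
    Spec.map (CommRingCat.ofHom (Ideal.Quotient.mk (I.ideal (U x))))
  haveI : LocallyOfFinitePresentation q := by
    refine HasRingHomProperty.Spec_iff.2 (RingHom.FinitePresentation.of_surjective _ Ideal.Quotient.mk_surjective ?_)
    simpa using hU x
  haveI : IsClosedImmersion q := IsClosedImmersion.spec_of_surjective _ Ideal.Quotient.mk_surjective
  let e := (U x).2.isoSpec
  have hker : (pullback.fst (U x).2.fromSpec I.subschemeι).ker = q.ker := by
    rw [Scheme.IdealSheafData.ker_fst_of_isClosedImmersion, Scheme.IdealSheafData.ker_subschemeι,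
      FittLib.comap_fromSpec]
    rfl
  haveI : LocallyOfFinitePresentation (pullback.fst (U x).2.fromSpec I.subschemeι) := by
    haveI := IsClosedImmersion.isIso_lift q (pullback.fst (U x).2.fromSpec I.subschemeι) hker.symm
    rw [← IsClosedImmersion.lift_fac q (pullback.fst (U x).2.fromSpec I.subschemeι) hker.symm.le]
    infer_instance
  have sq : IsPullback (pullback.snd (U x).2.fromSpec I.subschemeι) (pullback.fst (U x).2.fromSpec I.subschemeι)
      I.subschemeι (U x).2.fromSpec := (IsPullback.of_hasPullback _ _).flip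
  have sq' : IsPullback (I.subschemeι ⁻¹ᵁ (U x).1).ι (I.subschemeι ∣_ (U x).1) I.subschemeι (U x).1.ι :=
    (isPullback_morphismRestrict I.subschemeι (U x).1).flip
  have hw : e.inv ≫ (U x).1.ι = (U x).2.fromSpec := (U x).2.isoSpec_inv_ι
  let l := sq'.lift (pullback.snd (U x).2.fromSpec I.subschemeι)
    (pullback.fst (U x).2.fromSpec I.subschemeι ≫ e.inv) (by rw [Category.assoc, hw]; exact sq.w)
  have h2 : IsPullback l (pullback.fst (U x).2.fromSpec I.subschemeι) (I.subschemeι ∣_ (U x).1) e.inv :=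
    IsPullback.of_right (by rw [sq'.lift_fst, hw]; exact sq) (sq'.lift_snd _ _ _) sq'
  haveI : IsIso l := h2.isIso_fst_of_isIso
  have : I.subschemeι ∣_ (U x).1 = inv l ≫ pullback.fst (U x).2.fromSpec I.subschemeι ≫ e.inv := by
    rw [IsIso.eq_inv_comp]
    exact sq'.lift_snd _ _ _
  rw [this]
  infer_instance

/-- Near a maximal point every element of the corresponding prime is nilpotent. -/
theorem exists_mul_pow_eq_zero {R : Type u} [CommRing R] (p : PrimeSpectrum R)
    (hp : ∀ q : PrimeSpectrum R, q.asIdeal ≤ p.asIdeal → q = p) {a : R} (ha : a ∈ p.asIdeal) :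
    ∃ f ∉ p.asIdeal, ∃ n : ℕ, f * a ^ n = 0 := by
  have hnil : IsNilpotent (algebraMap R (Localization.AtPrime p.asIdeal) a) := by
    rw [← mem_nilradical, nilradical_eq_sInf, Ideal.mem_sInf]
    intro Q hQ
    haveI : Q.IsPrime := hQ
    have hle : Q.comap (algebraMap R (Localization.AtPrime p.asIdeal)) ≤ p.asIdeal := fun b hb => by
      by_contra hb'
      exact hQ.ne_top (Ideal.eq_top_of_isUnit_mem _ hb
        (IsLocalization.map_units (Localization.AtPrime p.asIdeal) (⟨b, hb'⟩ : p.asIdeal.primeCompl)))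
    haveI hcp : (Q.comap (algebraMap R (Localization.AtPrime p.asIdeal))).IsPrime := Ideal.IsPrime.comap _
    have := congrArg PrimeSpectrum.asIdeal (hp ⟨_, hcp⟩ hle)
    exact this.ge ha
  obtain ⟨n, hn⟩ := hnil
  rw [← map_pow] at hn
  obtain ⟨⟨f, hf⟩, h⟩ := (IsLocalization.map_eq_zero_iff p.asIdeal.primeCompl _ _).1 hn
  exact ⟨f, hf, n, h⟩

/-- A maximal point of a locally finitely generated support is interior to it. -/
theorem mem_interior_support (I : X.IdealSheafData) {U : X.affineOpens} (hI : (I.ideal U).FG) {x : X}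
    (hxU : x ∈ U.1) (hx : x ∈ I.support) (hmax : ∀ y, y ⤳ x → y = x) : x ∈ interior (I.support : Set X) := by
  classical
  let p := U.2.primeIdealOf ⟨x, hxU⟩
  have hle : I.ideal U ≤ p.asIdeal := (FittLib.mem_support_iff I U hxU).1 hx
  have hmin : ∀ q : PrimeSpectrum Γ(X, U.1), q.asIdeal ≤ p.asIdeal → q = p := fun q hq => by
    have h1 : U.2.fromSpec q ⤳ U.2.fromSpec p :=
      (((PrimeSpectrum.le_iff_specializes q p).1 hq)).map U.2.fromSpec.continuous
    rw [U.2.fromSpec_primeIdealOf] at h1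
    exact U.2.fromSpec.isOpenEmbedding.injective ((hmax _ h1).trans (U.2.fromSpec_primeIdealOf ⟨x, hxU⟩).symm)
  obtain ⟨gens, hg⟩ := hI
  have hmem : ∀ a : gens, (a : Γ(X, U.1)) ∈ p.asIdeal := fun a => hle (hg ▸ Ideal.subset_span a.2)
  choose f hf n hn using fun a : gens => exists_mul_pow_eq_zero p hmin (hmem a)
  let F := ∏ a, f a
  have hFp : F ∉ p.asIdeal := fun h => by
    obtain ⟨a, -, ha⟩ := (p.isPrime.prod_mem_iff).1 h
    exact hf a ha
  rw [mem_interior]
  refine ⟨X.basicOpen F, fun y hy => ?_, (X.basicOpen F).2, ?_⟩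
  · have hyU : y ∈ U.1 := X.basicOpen_le F hy
    refine (FittLib.mem_support_iff I U hyU).2 ?_
    rw [← hg, Ideal.span_le]
    intro a ha
    let P := U.2.primeIdealOf ⟨y, hyU⟩
    have hFP : F ∉ P.asIdeal := by
      have h : U.2.fromSpec P ∈ X.basicOpen F := by rw [U.2.fromSpec_primeIdealOf]; exact hy
      rw [← U.2.fromSpec_image_basicOpen] at h
      obtain ⟨P', hP', he⟩ := h
      rw [← U.2.fromSpec.isOpenEmbedding.injective he]
      exact hP'
    have hfP : f ⟨a, ha⟩ ∉ P.asIdeal := fun h => hFP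
      (Ideal.mem_of_dvd _ (Finset.dvd_prod_of_mem f (Finset.mem_univ _)) h)
    refine P.isPrime.mem_of_pow_mem (n ⟨a, ha⟩) ((P.isPrime.mem_or_mem ?_).resolve_left hfP)
    rw [hn]
    exact zero_mem _
  · rw [SetLike.mem_coe, ← U.2.fromSpec_image_basicOpen F]
    exact ⟨p, hFp, U.2.fromSpec_primeIdealOf _⟩

end Groth.Agent.GrpdFit
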