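import Groth.Agent.FittLib.Comap
import Groth.Agent.FittLib.Proj
import Groth.Agent.Fitting.Local
import Groth.Prelude.Def_Mor2
import Mathlib

/-!
Fitting ideals of a finite morphism and the strata where it is finite locally free.
-/

set_option autoImplicit false
set_option linter.style.haveILetI false
set_option backward.isDefEq.respectTransparency false

universe u

open CategoryTheory CategoryTheory.Limits AlgebraicGeometry TensorProduct TopologicalSpace

namespace Groth.Agent.GrpdFit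

/-- Fitting ideal of the pushforward of the structure sheaf on an open. -/
noncomputable def fitIdeal {P X : Scheme.{u}} (s : P ⟶ X) (U : X.Opens) (k : ℕ) : Ideal Γ(X, U) :=
  letI := (s.app U).hom.toAlgebra
  Fitt.ideal Γ(X, U) Γ(P, s ⁻¹ᵁ U) k

theorem finite_sections {P X : Scheme.{u}} (s : P ⟶ X) [IsFinite s] {U : X.Opens} (hU : IsAffineOpen U) :
    letI := (s.app U).hom.toAlgebra
    Module.Finite Γ(X, U) Γ(P, s ⁻¹ᵁ U) :=
  s.finite_app U hU

theorem fitIdeal_pullback {P P' X X' : Scheme.{u}} {g' : P' ⟶ P} {s' : P' ⟶ X'} {s : P ⟶ X} {g : X' ⟶ X}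
    (H : IsPullback g' s' s g) [IsFinite s] {U : X.Opens} (hU : IsAffineOpen U) {V : X'.Opens}
    (hV : IsAffineOpen V) (hVU : V ≤ g ⁻¹ᵁ U) (k : ℕ) :
    fitIdeal s' V k = (fitIdeal s U k).map (g.appLE U V hVU).hom := by
  have hle : s' ⁻¹ᵁ V ≤ g' ⁻¹ᵁ (s ⁻¹ᵁ U) := fun z hz => by
    have h1 := congr($(H.w) z)
    show s (g' z) ∈ U
    rw [show s (g' z) = g (s' z) from h1]
    exact hVU hz
  have hUY : s' ⁻¹ᵁ V = g' ⁻¹ᵁ (s ⁻¹ᵁ U) ⊓ s' ⁻¹ᵁ V := (inf_eq_right.2 hle).symm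
  have hpo := (isIso_pushoutSection_iff H hVU (le_refl (s ⁻¹ᵁ U)) hUY).1
    (isIso_pushoutSection_of_isAffineOpen H hVU (le_refl (s ⁻¹ᵁ U)) hUY hU hV (hU.preimage s))
  rw [Scheme.Hom.appLE_eq_app, Scheme.Hom.appLE_eq_app s'] at hpo
  haveI hfin := finite_sections s hU
  letI := (s.app U).hom.toAlgebra
  letI := (g.appLE U V hVU).hom.toAlgebra
  letI := (s'.app V).hom.toAlgebra
  letI := (g'.appLE (s ⁻¹ᵁ U) (s' ⁻¹ᵁ V) hle).hom.toAlgebra
  letI : Algebra Γ(X, U) Γ(P', s' ⁻¹ᵁ V) := ((g.appLE U V hVU ≫ s'.app V).hom).toAlgebra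
  haveI : IsScalarTower Γ(X, U) Γ(X', V) Γ(P', s' ⁻¹ᵁ V) := .of_algebraMap_eq' rfl
  haveI : IsScalarTower Γ(X, U) Γ(P, s ⁻¹ᵁ U) Γ(P', s' ⁻¹ᵁ V) := .of_algebraMap_eq' congr($(hpo.w).hom).symm
  haveI : Algebra.IsPushout Γ(X, U) Γ(P, s ⁻¹ᵁ U) Γ(X', V) Γ(P', s' ⁻¹ᵁ V) :=
    CommRingCat.isPushout_iff_isPushout.mp hpo
  haveI : Algebra.IsPushout Γ(X, U) Γ(X', V) Γ(P, s ⁻¹ᵁ U) Γ(P', s' ⁻¹ᵁ V) := Algebra.IsPushout.symm inferInstance
  let e : Γ(X', V) ⊗[Γ(X, U)] Γ(P, s ⁻¹ᵁ U) ≃ₐ[Γ(X', V)] Γ(P', s' ⁻¹ᵁ V) :=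
    Algebra.IsPushout.equiv Γ(X, U) Γ(X', V) Γ(P, s ⁻¹ᵁ U) Γ(P', s' ⁻¹ᵁ V)
  show Fitt.ideal Γ(X', V) Γ(P', s' ⁻¹ᵁ V) k =
    (Fitt.ideal Γ(X, U) Γ(P, s ⁻¹ᵁ U) k).map (algebraMap Γ(X, U) Γ(X', V))
  rw [← FittLib.ideal_congr e.toLinearEquiv, FittLib.ideal_baseChange]

variable {P X : Scheme.{u}} (s : P ⟶ X) [IsFinite s]

/-- The Fitting ideal sheaf of a finite morphism. -/
noncomputable def fitData (k : ℕ) : X.IdealSheafData where
  ideal U := fitIdeal s U k
  map_ideal_basicOpen U f := by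
    have h := fitIdeal_pullback (IsPullback.of_id_fst (f := s)) U.2 (U.2.basicOpen f)
      (show X.basicOpen f ≤ (𝟙 X) ⁻¹ᵁ (U : X.Opens) from X.basicOpen_le f) k
    show Ideal.map (X.presheaf.map (homOfLE (X.basicOpen_le f)).op).hom (fitIdeal s U.1 k) =
      fitIdeal s (X.basicOpen f) k
    refine Eq.trans ?_ h.symm
    congr 2

theorem fitData_ideal (k : ℕ) (U : X.affineOpens) : (fitData s k).ideal U = fitIdeal s U k := rfl

theorem fitData_comap {P' X' : Scheme.{u}} {g' : P' ⟶ P} {s' : P' ⟶ X'} {g : X' ⟶ X} [IsFinite s']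
    (H : IsPullback g' s' s g) (k : ℕ) : (fitData s k).comap g = fitData s' k := by
  choose U hU V hV hVU hx using fun x : X' => (by
    obtain ⟨U, hU, hxU, -⟩ := exists_isAffineOpen_mem_and_subset (show g x ∈ (⊤ : X.Opens) from trivial)
    obtain ⟨V, hV, hxV, hVU⟩ := exists_isAffineOpen_mem_and_subset (show x ∈ g ⁻¹ᵁ U from hxU)
    exact ⟨U, hU, V, hV, hVU, hxV⟩ :
      ∃ (U : X.Opens) (_ : IsAffineOpen U) (V : X'.Opens) (_ : IsAffineOpen V) (_ : V ≤ g ⁻¹ᵁ U), x ∈ V)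
  refine Scheme.IdealSheafData.ext_of_iSup_eq_top (fun x => ⟨V x, hV x⟩)
    (eq_top_iff.mpr fun x _ => Opens.mem_iSup.mpr ⟨x, hx x⟩) fun x => ?_
  rw [FittLib.comap_ideal g _ (hU x) (hV x) (hVU x), fitData_ideal, fitData_ideal,
    fitIdeal_pullback H (hU x) (hV x) (hVU x)]

theorem fitData_mono : Monotone (fitData s) := by
  refine monotone_nat_of_le_succ fun k => ?_
  intro U
  haveI := finite_sections s U.2
  letI := (s.app U.1).hom.toAlgebra
  obtain ⟨n, x, hx⟩ := FittLib.exists_generators Γ(X, U.1) Γ(P, s ⁻¹ᵁ U.1)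
  show Fitt.ideal Γ(X, U.1) Γ(P, s ⁻¹ᵁ U.1) k ≤ Fitt.ideal Γ(X, U.1) Γ(P, s ⁻¹ᵁ U.1) (k + 1)
  rw [FittLib.ideal_eq_minors x hx, FittLib.ideal_eq_minors x hx]
  exact FittLib.minors_antitone x (by omega)

theorem fitData_zero (e : X ⟶ P) (he : e ≫ s = 𝟙 X) : fitData s 0 = ⊥ := by
  refine eq_bot_iff.2 fun U => ?_
  haveI := finite_sections s U.2
  letI := (s.app U.1).hom.toAlgebra
  intro d hd
  have hd' := Module.mem_annihilator.1 (Fitting.le_annihilator (R := Γ(X, U.1)) (M := Γ(P, s ⁻¹ᵁ U.1)) hd)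
    (1 : Γ(P, s ⁻¹ᵁ U.1))
  rw [Algebra.smul_def, mul_one] at hd'
  have hd'' : (s.app U.1).hom d = 0 := hd'
  have hle : U.1 ≤ (e ≫ s) ⁻¹ᵁ U.1 := by rw [he]; exact le_refl _
  have h1 : ((e ≫ s).appLE U.1 U.1 hle).hom d = 0 := by
    rw [← Scheme.Hom.appLE_comp_appLE e s U.1 (s ⁻¹ᵁ U.1) U.1 le_rfl hle, Scheme.Hom.appLE_eq_app,
      CommRingCat.comp_apply]
    rw [hd'', map_zero]
  have hid : ∀ (f : X ⟶ X) (_ : f = 𝟙 X) (hle : U.1 ≤ f ⁻¹ᵁ U.1), f.appLE U.1 U.1 hle = 𝟙 _ := by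
    rintro _ rfl hle
    simp [Scheme.Hom.appLE]
    exact X.presheaf.map_id _
  have h2 : ((e ≫ s).appLE U.1 U.1 hle).hom d = d := by
    rw [hid _ he hle]; rfl
  rw [Scheme.IdealSheafData.ideal_bot]
  exact h2 ▸ h1

theorem exists_notMem_support (x : X) : ∃ k, x ∉ (fitData s k).support := by
  obtain ⟨U, hU, hxU, -⟩ := exists_isAffineOpen_mem_and_subset (show x ∈ (⊤ : X.Opens) from trivial)
  haveI := finite_sections s hU
  letI := (s.app U).hom.toAlgebra
  obtain ⟨n, g, hg⟩ := FittLib.exists_generators Γ(X, U) Γ(P, s ⁻¹ᵁ U)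
  refine ⟨n, fun h => ?_⟩
  rw [FittLib.mem_support_iff _ ⟨U, hU⟩ hxU] at h
  refine (hU.primeIdealOf ⟨x, hxU⟩).isPrime.ne_top (top_le_iff.1 ?_)
  rw [← FittLib.ideal_eq_top_of_generators g hg (le_of_eq (Fintype.card_fin n))]
  exact h

theorem ideal_eq_bot_of_free {K M : Type u} [Field K] [AddCommGroup M] [Module K M] [Module.Finite K M] {k : ℕ}
    (h : k < Module.finrank K M) : Fitt.ideal K M k = ⊥ := by
  let b := Module.finBasis K M
  rw [FittLib.ideal_eq_minors b b.span_eq, eq_bot_iff]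
  refine FittLib.minors_le fun z e hz => ?_
  have hz0 : ∀ j, z j = 0 := fun j => funext fun i =>
    (Fintype.linearIndependent_iff.1 b.linearIndependent) (z j) (FittLib.mem_rel.1 (hz j)) i
  rw [Ideal.mem_bot, FittLib.minor]
  refine Matrix.det_eq_zero_of_column_eq_zero ⟨0, by rw [Fintype.card_fin]; omega⟩ fun i => ?_
  simp [hz0]

theorem free_rank {A M : Type u} [CommRing A] [AddCommGroup M] [Module A M] [Module.Finite A M] {r : ℕ}
    (h0 : Fitt.ideal A M r = ⊥) (h1 : Fitt.ideal A M (r + 1) = ⊤) :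
    Module.Projective A M ∧ ∀ p : PrimeSpectrum A, Module.rankAtStalk M p = r + 1 := by
  have hproj : Module.Projective A M := FittLib.projective_of_ideal h1 (Or.inr (by simpa using h0))
  refine ⟨hproj, fun p => ?_⟩
  haveI := hproj
  rw [Module.rankAtStalk_eq]
  let K := p.asIdeal.ResidueField
  have hK0 : Fitt.ideal K (K ⊗[A] M) r = ⊥ := by rw [FittLib.ideal_baseChange, h0, Ideal.map_bot]
  have hK1 : Fitt.ideal K (K ⊗[A] M) (r + 1) = ⊤ := by rw [FittLib.ideal_baseChange, h1, Ideal.map_top]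
  show Module.finrank K (K ⊗[A] M) = r + 1
  refine le_antisymm ?_ ?_
  · by_contra h
    rw [ideal_eq_bot_of_free (not_le.1 h)] at hK1
    exact bot_ne_top hK1
  · by_contra h
    rw [FittLib.ideal_eq_top_of_generators _ (Module.finBasis K (K ⊗[A] M)).span_eq
      (by rw [Fintype.card_fin]; omega)] at hK0
    exact top_ne_bot hK0

/-- Where consecutive Fitting ideals are zero and the unit ideal the morphism is finite locally free. -/
theorem isFinLocFreeOfDeg {r : ℕ} (h0 : fitData s r = ⊥) (h1 : fitData s (r + 1) = ⊤) :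
    Mor2.IsFinLocFreeOfDeg (r + 1) s := by
  have key : ∀ U : X.affineOpens, Flat (s ∣_ U.1) ∧ LocallyOfFinitePresentation (s ∣_ U.1) ∧
      IsPullback (U.2.preimage s).fromSpec (Spec.map (s.app U.1)) s U.2.fromSpec ∧
      letI := (s.app U.1).hom.toAlgebra
      ∀ p : PrimeSpectrum Γ(X, U.1), Module.rankAtStalk Γ(P, s ⁻¹ᵁ U.1) p = r + 1 := by
    intro U
    haveI : IsAffine U.1.toScheme := U.2
    haveI : IsAffine (s ⁻¹ᵁ U.1).toScheme := U.2.preimage s
    haveI := finite_sections s U.2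
    letI := (s.app U.1).hom.toAlgebra
    obtain ⟨hproj, hrk⟩ := free_rank (A := Γ(X, U.1)) (M := Γ(P, s ⁻¹ᵁ U.1)) (r := r)
      (congrArg (fun I => I.ideal U) h0 :)
      (by
        have := congrArg (fun I => I.ideal U) h1
        rw [Scheme.IdealSheafData.ideal_top] at this
        exact this)
    haveI := hproj
    have hw : Spec.map (s.app U.1) ≫ U.2.isoSpec.inv = (U.2.preimage s).isoSpec.inv ≫ (s ∣_ U.1) := by
      rw [← cancel_mono U.1.ι, Category.assoc, Category.assoc, morphismRestrict_ι, U.2.isoSpec_inv_ι,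
        ← Category.assoc, (U.2.preimage s).isoSpec_inv_ι, ← Scheme.Hom.appLE_eq_app,
        U.2.SpecMap_appLE_fromSpec]
    have h : IsPullback (U.2.preimage s).fromSpec (Spec.map (s.app U.1)) s U.2.fromSpec := by
      have h1 : IsPullback (U.2.preimage s).isoSpec.inv (Spec.map (s.app U.1)) (s ∣_ U.1) U.2.isoSpec.inv :=
        IsPullback.of_horiz_isIso ⟨hw.symm⟩
      have := h1.paste_horiz (isPullback_morphismRestrict s U.1).flip
      rwa [(U.2.preimage s).isoSpec_inv_ι, U.2.isoSpec_inv_ι] at this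
    have hflat : (s.app U.1).hom.Flat := RingHom.flat_algebraMap_iff.2 inferInstance
    haveI : Module.FinitePresentation Γ(X, U.1) Γ(P, s ⁻¹ᵁ U.1) := Module.finitePresentation_of_projective _ _
    have hfp : (s.app U.1).hom.FinitePresentation :=
      RingHom.finitePresentation_algebraMap.2 (Algebra.FinitePresentation.of_finitePresentation _ _)
    have hiso : Arrow.mk (s ∣_ U.1) ≅ Arrow.mk (Spec.map (s.app U.1)) :=
      (Arrow.isoMk (f := Arrow.mk (Spec.map (s.app U.1))) (g := Arrow.mk (s ∣_ U.1))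
        (U.2.preimage s).isoSpec.symm U.2.isoSpec.symm hw.symm).symm
    exact ⟨(MorphismProperty.arrow_mk_iso_iff (P := @Flat) hiso).2 (Flat.SpecMap_iff.2 hflat),
      (MorphismProperty.arrow_mk_iso_iff (P := @LocallyOfFinitePresentation) hiso).2
        (HasRingHomProperty.Spec_iff.2 hfp), h, hrk⟩
  haveI : Flat s :=
    (IsZariskiLocalAtTarget.iff_of_iSup_eq_top (P := @Flat) _ (iSup_affineOpens_eq_top X)).2 fun U => (key U).1
  refine ⟨⟨inferInstance, inferInstance, ?_⟩, fun x => ?_⟩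
  · exact (IsZariskiLocalAtTarget.iff_of_iSup_eq_top (P := @LocallyOfFinitePresentation) _
      (iSup_affineOpens_eq_top X)).2 fun U => (key U).2.1
  · obtain ⟨U, hU, hxU, -⟩ := exists_isAffineOpen_mem_and_subset (show x ∈ (⊤ : X.Opens) from trivial)
    obtain ⟨-, -, h, hrk⟩ := key ⟨U, hU⟩
    haveI := finite_sections s hU
    letI := (s.app U).hom.toAlgebra
    have := Scheme.Hom.finrank_of_isPullback _ _ _ _ h (hU.primeIdealOf ⟨x, hxU⟩)
    rw [hU.fromSpec_primeIdealOf] at this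
    rw [← this]
    haveI : Module.Flat Γ(X, U) Γ(P, s ⁻¹ᵁ U) := RingHom.flat_algebraMap_iff.1 (by show (s.app U).hom.Flat; rw [← Scheme.Hom.appLE_eq_app]; exact s.flat_appLE hU (hU.preimage s) le_rfl)
    exact (Scheme.Hom.finrank_SpecMap_algebraMap Γ(X, U) Γ(P, s ⁻¹ᵁ U) _).trans (hrk _)

end Groth.Agent.GrpdFit
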