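import Groth.Agent.GrpdFit.Thicken
import Groth.Agent.GrpdInvBasic.Basic
import Groth.Agent.Grpd.Restrict
import Groth.Agent.SpQS.DimZero

/-!
Invariant affine neighbourhoods of generic points, with a thickening over which source and target are finite
locally free.
-/

set_option autoImplicit false
set_option linter.style.haveILetI false

universe u

open CategoryTheory CategoryTheory.Limits AlgebraicGeometry TopologicalSpace

namespace Groth.Agent.GrpdFit

/-- Finitely many maximal points of a quasi-separated scheme lie in an affine open inside a given open. -/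
theorem exists_affine_of_maximal {X : Scheme.{u}} [QuasiSeparatedSpace X] {E : Set X} (hE : E.Finite)
    (hmax : ∀ e ∈ E, ∀ y, y ⤳ e → y = e) (O : X.Opens) (hEO : E ⊆ O) :
    ∃ D : X.Opens, IsAffineOpen D ∧ E ⊆ D ∧ D ≤ O := by
  induction E, hE using Set.Finite.induction_on with
  | empty => exact ⟨⊥, isAffineOpen_bot X, Set.empty_subset _, bot_le⟩
  | @insert e E _ _ ih =>
    obtain ⟨D, hD, hED, hDO⟩ := ih (fun e' he' => hmax e' (Or.inr he')) fun e' he' => hEO (Or.inr he')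
    by_cases heD : e ∈ D
    · exact ⟨D, hD, Set.insert_subset heD hED, hDO⟩
    have : CompactSpace D.toScheme := isCompact_iff_compactSpace.1 hD.isCompact
    have : QuasiCompact D.ι := quasiCompact_of_compactSpace _
    have he : e ∉ closure (D : Set X) := fun hcl => by
      obtain ⟨z, -, hz⟩ := SubDescent.exists_specializes_of_mem_closure_image D.ι isClosed_univ
        (y := e) (by rwa [Set.image_univ, Scheme.Opens.range_ι])
      exact heD (hmax e (Set.mem_insert _ _) _ hz ▸ z.2)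
    obtain ⟨A, hA, heA, hAle⟩ := exists_isAffineOpen_mem_and_subset (x := e)
      (U := O ⊓ ⟨(closure (D : Set X))ᶜ, isClosed_closure.isOpen_compl⟩) ⟨hEO (Set.mem_insert _ _), he⟩
    refine ⟨D ⊔ A, hD.sup_of_disjoint hA ?_, Set.insert_subset (Or.inr heA) fun x hx => Or.inl (hED hx),
      sup_le hDO fun x hx => (hAle hx).1⟩
    rw [disjoint_iff]
    exact Opens.ext (Set.eq_empty_of_forall_notMem fun x hx => (hAle hx.2).2 (subset_closure hx.1))

variable {S : Scheme.{u}} (G : Grpd.GroupoidScheme S) [IsFinite G.s] [IsFinite G.t]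

/-- An invariant affine neighbourhood in the invariant open of finitely many orbits of generic points. -/
theorem exists_nhd [LocallyOfFinitePresentation G.s] [QuasiSeparatedSpace G.U] {m : ℕ} (u : Fin m → G.U)
    (hu : ∀ i (r : G.R), G.s r = u i → ∀ x : G.U, x ⤳ G.t r → x = G.t r) :
    ∃ V : G.U.Opens, IsAffineOpen V ∧ (∀ i, u i ∈ V) ∧ G.s ⁻¹ᵁ V = G.t ⁻¹ᵁ V ∧ V ≤ ⨆ r, T G r := by
  let E : Set G.U := G.t '' (G.s ⁻¹' Set.range u)
  have hE : E.Finite := by
    refine Set.Finite.image _ ?_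
    rw [← Set.biUnion_preimage_singleton]
    exact (Set.finite_range u).biUnion fun x _ => G.s.finite_preimage_singleton x
  have hmax : ∀ e ∈ E, ∀ y, y ⤳ e → y = e := by
    rintro e ⟨r, ⟨i, hi⟩, rfl⟩ y hy
    exact hu i r hi.symm y hy
  have hinv : ∀ r : G.R, G.s r ∈ E → G.t r ∈ E := by
    rintro r ⟨r', hr', he⟩
    obtain ⟨r'', h₁, h₂⟩ := GrpdLib.exists_comp G (r₁ := r) (r₂ := r') he.symm
    exact ⟨r'', show G.s r'' ∈ Set.range u from h₂.symm ▸ hr', h₁⟩
  have hEW : E ⊆ W G := fun e he => generic_mem G e fun r hr x hx => hmax _ (hinv r (hr.symm ▸ he)) x hx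
  obtain ⟨D, hD, hED, hDW⟩ := exists_affine_of_maximal hE hmax _ hEW
  let M := GrpdLib.core G D
  have hEM : E ⊆ M := fun e he => (GrpdLib.mem_core_iff G _ _).2 fun r hr => hED (hinv r (hr.symm ▸ he))
  have hM := GrpdLib.core_invariant G D
  let H := GrpdLib.restrict G M hM
  have hMD : M ≤ D := GrpdLib.core_le G D
  let j : H.U ⟶ Spec (CommRingCat.of Γ(G.U, D)) := G.U.homOfLE hMD ≫ hD.isoSpec.hom
  haveI : IsOpenImmersion j := by
    haveI := IsOpenImmersion.comp (G.U.homOfLE hMD) hD.isoSpec.hom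
    exact this
  let C : Set (PrimeSpectrum Γ(G.U, D)) := (Set.range j)ᶜ
  have hz : PrimeSpectrum.zeroLocus (PrimeSpectrum.vanishingIdeal C : Set Γ(G.U, D)) = C := by
    rw [PrimeSpectrum.zeroLocus_vanishingIdeal_eq_closure]
    exact (j.isOpenEmbedding.isOpen_range.isClosed_compl).closure_eq
  let E' : Set H.U := M.ι ⁻¹' E
  obtain ⟨h, -, haff, hsub, heq⟩ := GrpdInvBasic.main (PrimeSpectrum.vanishingIdeal C) H j
    (fun x hx => by rw [hz] at hx; exact hx ⟨x, rfl⟩)
    (by rw [hz, Set.compl_union_self]; exact isClosed_univ) E'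
    (hE.preimage M.ι.isOpenEmbedding.injective.injOn)
    (fun e he y hy => M.ι.isOpenEmbedding.injective (hmax _ he _ (hy.map M.ι.continuous)))
    (fun r hr => by
      show M.ι ((GrpdLib.rT G M hM) r) ∈ E
      rw [← Scheme.Hom.comp_apply, GrpdLib.rT_ι, Scheme.Hom.comp_apply]
      refine hinv _ ?_
      have h1 : M.ι (GrpdLib.rS G M r) ∈ E := hr
      rwa [← Scheme.Hom.comp_apply, GrpdLib.rS_ι, Scheme.Hom.comp_apply] at h1)
  let V' : M.toScheme.Opens := j ⁻¹ᵁ PrimeSpectrum.basicOpen h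
  have hmem : ∀ (w : G.U) (hw : w ∈ M), w ∈ M.ι ''ᵁ V' ↔ (⟨w, hw⟩ : M.toScheme) ∈ V' := fun w hw => by
    constructor
    · rintro ⟨y, hy, rfl⟩
      exact hy
    · exact fun hy => ⟨⟨w, hw⟩, hy, rfl⟩
  refine ⟨M.ι ''ᵁ V', (show IsAffineOpen V' from haff).image_of_isOpenImmersion M.ι, fun i => ?_, ?_, ?_⟩
  · have hi : u i ∈ E := ⟨G.e (u i), ⟨i, (congr($(G.e_s) (u i))).symm⟩, congr($(G.e_t) (u i))⟩
    exact (hmem _ (hEM hi)).2 (hsub hi)
  · refine Opens.ext (Set.ext fun r => ?_)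
    constructor
    · intro hr
      have hrM : G.s r ∈ M := by
        obtain ⟨y, -, hy⟩ := hr
        exact hy ▸ y.2
      have hrt : G.t r ∈ M := by
        show r ∈ G.t ⁻¹ᵁ M
        rw [← hM]; exact hrM
      let r' : H.R := ⟨r, hrM⟩
      have h1 : r' ∈ H.s ⁻¹ᵁ V' := by
        have e : H.s r' = ⟨G.s r, hrM⟩ := M.ι.isOpenEmbedding.injective (congr($(GrpdLib.rS_ι G M) r'))
        show H.s r' ∈ V'
        rw [e]
        exact (hmem _ hrM).1 hr
      rw [show H.s ⁻¹ᵁ V' = H.t ⁻¹ᵁ V' from heq] at h1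
      have e : H.t r' = ⟨G.t r, hrt⟩ := M.ι.isOpenEmbedding.injective (congr($(GrpdLib.rT_ι G M hM) r'))
      exact (hmem _ hrt).2 (e ▸ h1)
    · intro hr
      have hrt : G.t r ∈ M := by
        obtain ⟨y, -, hy⟩ := hr
        exact hy ▸ y.2
      have hrM : G.s r ∈ M := by
        show r ∈ G.s ⁻¹ᵁ M
        rw [hM]; exact hrt
      let r' : H.R := ⟨r, hrM⟩
      have h1 : r' ∈ H.t ⁻¹ᵁ V' := by
        have e : H.t r' = ⟨G.t r, hrt⟩ := M.ι.isOpenEmbedding.injective (congr($(GrpdLib.rT_ι G M hM) r'))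
        show H.t r' ∈ V'
        rw [e]
        exact (hmem _ hrt).1 hr
      rw [← show H.s ⁻¹ᵁ V' = H.t ⁻¹ᵁ V' from heq] at h1
      have e : H.s r' = ⟨G.s r, hrM⟩ := M.ι.isOpenEmbedding.injective (congr($(GrpdLib.rS_ι G M) r'))
      exact (hmem _ hrM).2 (e ▸ h1)
  · rintro w ⟨y, -, rfl⟩
    exact W_le G (hDW (hMD y.2))

end Groth.Agent.GrpdFit
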