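import Groth.Agent.GrpdFit.Fit
import Groth.Agent.Grpd.Comp7457

/-!
Invariance of the Fitting ideals of the source map of a groupoid.
-/

set_option autoImplicit false
set_option linter.style.haveILetI false

universe u

open CategoryTheory CategoryTheory.Limits AlgebraicGeometry TopologicalSpace

namespace Groth.Agent.GrpdFit

theorem exists_iso_of_comap_eq {X Y : Scheme.{u}} (f g : X ⟶ Y) (I : Y.IdealSheafData)
    (h : I.comap f = I.comap g) :
    ∃ φ : pullback f I.subschemeι ≅ pullback g I.subschemeι,
      φ.hom ≫ pullback.fst g I.subschemeι = pullback.fst f I.subschemeι := by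
  have hker : (pullback.fst g I.subschemeι).ker = (pullback.fst f I.subschemeι).ker := by
    rw [Scheme.IdealSheafData.ker_fst_of_isClosedImmersion, Scheme.IdealSheafData.ker_fst_of_isClosedImmersion,
      Scheme.IdealSheafData.ker_subschemeι, h]
  haveI := IsClosedImmersion.isIso_lift (pullback.fst g I.subschemeι) (pullback.fst f I.subschemeι) hker
  exact ⟨asIso (IsClosedImmersion.lift (pullback.fst g I.subschemeι) (pullback.fst f I.subschemeι) hker.le),
    IsClosedImmersion.lift_fac _ _ _⟩

theorem comap_eq_bot_of_factors {Z X : Scheme.{u}} (I : X.IdealSheafData) (k : Z ⟶ I.subscheme) :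
    I.comap (k ≫ I.subschemeι) = ⊥ := by
  have h : I.comap I.subschemeι = ⊥ := by
    rw [← le_bot_iff, ← Scheme.IdealSheafData.le_map_iff_comap_le, Scheme.IdealSheafData.map_bot,
      Scheme.IdealSheafData.ker_subschemeι]
  rw [Scheme.IdealSheafData.comap_comp, h, Scheme.IdealSheafData.comap_bot]

theorem comap_eq_top_of_disjoint {Z X : Scheme.{u}} (I : X.IdealSheafData) (f : Z ⟶ X)
    (h : ∀ z, f z ∉ I.support) : I.comap f = ⊤ := by
  rw [← Scheme.IdealSheafData.support_eq_bot_iff, Scheme.IdealSheafData.support_comap]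
  exact Closeds.ext (Set.eq_empty_iff_forall_notMem.2 fun z hz => h z hz)

variable {S : Scheme.{u}} (G : Grpd.GroupoidScheme S) [IsFinite G.s]

/-- The Fitting ideals of the source map are invariant. -/
theorem fitData_invariant (k : ℕ) : (fitData G.s k).comap G.s = (fitData G.s k).comap G.t := by
  haveI : IsFinite (pullback.snd G.s G.t) := inferInstance
  rw [fitData_comap G.s (GrpdLib.comp_isPullback G).2 k,
    fitData_comap G.s (IsPullback.of_hasPullback G.s G.t) k]

theorem support_invariant (k : ℕ) (r : G.R) :
    G.s r ∈ (fitData G.s k).support ↔ G.t r ∈ (fitData G.s k).support := by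
  have h := congrArg (fun I : G.R.IdealSheafData => r ∈ I.support) (fitData_invariant G k)
  simp only [Scheme.IdealSheafData.support_comap] at h
  exact Iff.of_eq h

theorem fitData_zero_eq_bot : fitData G.s 0 = ⊥ := fitData_zero G.s G.e G.e_s

/-- Over a stratum the source map is finite locally free. -/
theorem stratum {P X Z : Scheme.{u}} (s : P ⟶ X) [IsFinite s] (ι' : Z ⟶ X) (r : ℕ)
    (hz : (fitData s r).comap ι' = ⊥) (ht : (fitData s (r + 1)).comap ι' = ⊤) :
    Mor2.IsFinLocFreeOfDeg (r + 1) (pullback.snd s ι') := by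
  rw [fitData_comap s (IsPullback.of_hasPullback s ι')] at hz ht
  exact isFinLocFreeOfDeg (pullback.snd s ι') hz ht

end Groth.Agent.GrpdFit
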