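import Groth.Agent.GrpdFit.Strata
import Groth.Agent.GrpdFit.Ideal
import Groth.Agent.Grpd.InvAffine
import Groth.Agent.Grpd.Restrict
import Groth.Agent.Grpd.Inverse

/-!
An invariant thickening over which source and target are finite locally free.
-/

set_option autoImplicit false
set_option linter.style.haveILetI false

universe u

open CategoryTheory CategoryTheory.Limits AlgebraicGeometry TopologicalSpace

namespace Groth.Agent.GrpdFit

variable {S : Scheme.{u}} (G : Grpd.GroupoidScheme S) [IsFinite G.s] [IsFinite G.t]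

/-- Where `Fit_r` is locally nilpotent and `Fit_{r+1}` is the unit ideal. -/
noncomputable def T (r : ℕ) : G.U.Opens :=
  (⟨interior ((fitData G.s r).support : Set G.U), isOpen_interior⟩ : G.U.Opens) ⊓ (fitData G.s (r + 1)).support.compl

/-- The invariant open. -/
noncomputable def W : G.U.Opens := GrpdLib.core G (⨆ r, T G r)

theorem W_invariant : G.s ⁻¹ᵁ W G = G.t ⁻¹ᵁ W G := GrpdLib.core_invariant G _

theorem W_le : W G ≤ ⨆ r, T G r := GrpdLib.core_le G _

theorem T_unique {x : G.U} {p q : ℕ} (hp : x ∈ T G p) (hq : x ∈ T G q) : p = q := by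
  have key : ∀ {a b : ℕ}, x ∈ T G a → x ∈ T G b → ¬ a < b := fun {a b} ha hb hab =>
    ha.2 (Scheme.IdealSheafData.support_antitone (fitData_mono G.s hab) (interior_subset hb.1))
  rcases lt_trichotomy p q with h | h | h
  exacts [absurd h (key hp hq), h, absurd h (key hq hp)]

section

variable {G} {V : G.U.Opens}

variable (G V) in
/-- The pieces of an open. -/
noncomputable def pW (r : ℕ) : V.toScheme.Opens := V.ι ⁻¹ᵁ T G r

variable (hV : G.s ⁻¹ᵁ V = G.t ⁻¹ᵁ V) (hle : V ≤ ⨆ r, T G r)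
include hle

theorem exists_mem_pW (w : V.toScheme) : ∃ r, w ∈ pW G V r := by
  obtain ⟨r, hr⟩ := Opens.mem_iSup.1 (hle w.2)
  exact ⟨r, hr⟩

theorem mem_T_iff {x : G.U} (hx : x ∈ V) (p : ℕ) :
    x ∈ T G p ↔ x ∈ (fitData G.s p).support ∧ x ∉ (fitData G.s (p + 1)).support := by
  refine ⟨fun h => ⟨interior_subset h.1, h.2⟩, fun ⟨h1, h2⟩ => ?_⟩
  obtain ⟨q, hq⟩ := Opens.mem_iSup.1 (hle hx)
  rcases lt_trichotomy p q with h | h | h
  · exact absurd (Scheme.IdealSheafData.support_antitone (fitData_mono G.s h) (interior_subset hq.1)) h2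
  · exact h ▸ hq
  · exact absurd (Scheme.IdealSheafData.support_antitone (fitData_mono G.s h) h1) hq.2

include hV in
theorem T_invariant (r : G.R) (hr : G.s r ∈ V) (p : ℕ) : G.s r ∈ T G p ↔ G.t r ∈ T G p := by
  have hr' : G.t r ∈ V := by
    show r ∈ G.t ⁻¹ᵁ V
    rw [← hV]; exact hr
  rw [mem_T_iff hle hr, mem_T_iff hle hr', support_invariant, support_invariant]

variable (G V) in
/-- The complement of a piece. -/
noncomputable def pC (q : ℕ) : V.toScheme.Opens := ⨆ p : {p : ℕ // p ≠ q}, pW G V p.1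

theorem isClosedImmersion_pC (q : ℕ) : IsClosedImmersion (pC G V q).ι := by
  refine .of_isPreimmersion _ ?_
  rw [Scheme.Opens.range_ι]
  have : (pC G V q : Set V.toScheme) = (pW G V q : Set V.toScheme)ᶜ := by
    ext w
    constructor
    · intro hw hq
      obtain ⟨⟨p, hp⟩, hwp⟩ := Opens.mem_iSup.1 hw
      exact hp (T_unique G hwp hq)
    · intro hw
      obtain ⟨p, hp⟩ := exists_mem_pW hle w
      exact Opens.mem_iSup.2 ⟨⟨p, fun h => hw (h ▸ hp)⟩, hp⟩
  rw [this]
  exact (pW G V q).2.isClosed_compl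

variable (G V) in
/-- The ideal of the thickening. -/
noncomputable def J : V.toScheme.IdealSheafData :=
  ⨆ q, (fitData G.s q).comap V.ι ⊓ (pC G V q).ι.ker

theorem J_comap (p : ℕ) : (J G V).comap (pW G V p).ι = ((fitData G.s p).comap V.ι).comap (pW G V p).ι := by
  rw [J, (Scheme.IdealSheafData.map_gc (pW G V p).ι).l_iSup]
  have htop : (pC G V p).ι.ker.comap (pW G V p).ι = ⊤ := by
    haveI := isClosedImmersion_pC hle p
    refine comap_eq_top_of_disjoint _ _ fun z hz => ?_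
    rw [← SetLike.mem_coe, Scheme.Hom.support_ker, (pC G V p).ι.isClosedEmbedding.isClosed_range.closure_eq,
      Scheme.Opens.range_ι] at hz
    obtain ⟨⟨q, hq⟩, hzq⟩ := Opens.mem_iSup.1 hz
    exact hq (T_unique G hzq z.2)
  have hbot : ∀ q, q ≠ p → (pC G V q).ι.ker.comap (pW G V p).ι = ⊥ := fun q hq => by
    rw [← le_bot_iff, ← Scheme.IdealSheafData.le_map_iff_comap_le, Scheme.IdealSheafData.map_bot,
      ← Scheme.homOfLE_ι _ (le_iSup (fun p' : {p' : ℕ // p' ≠ q} => pW G V p'.1) ⟨p, hq.symm⟩ : pW G V p ≤ pC G V q)]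
    exact Scheme.Hom.le_ker_comp _ _
  refine le_antisymm (iSup_le fun q => ?_) ?_
  · rcases eq_or_ne q p with rfl | hq
    · rw [comap_inf_of_isOpenImmersion]; exact inf_le_left
    · rw [comap_inf_of_isOpenImmersion, hbot q hq]
      simp
  · refine le_trans (le_of_eq ?_) (le_iSup _ p)
    rw [comap_inf_of_isOpenImmersion, htop, inf_top_eq]

theorem J_comap_of_range {Z : Scheme.{u}} (k : Z ⟶ V.toScheme) (p : ℕ) (h : ∀ z, k z ∈ pW G V p) :
    (J G V).comap k = (fitData G.s p).comap (k ≫ V.ι) := by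
  have hr : Set.range k ⊆ Set.range (pW G V p).ι := by
    rw [Scheme.Opens.range_ι]
    rintro _ ⟨z, rfl⟩
    exact h z
  rw [← IsOpenImmersion.lift_fac (pW G V p).ι k hr, Scheme.IdealSheafData.comap_comp, J_comap hle, Category.assoc,
    ← Scheme.IdealSheafData.comap_comp, ← Scheme.IdealSheafData.comap_comp, Category.assoc]

theorem J_support : (J G V).support = ⊤ := by
  refine Closeds.ext (Set.eq_univ_of_forall fun w => ?_)
  obtain ⟨p, hp⟩ := exists_mem_pW hle w
  have h := congrArg (fun I : (pW G V p).toScheme.IdealSheafData => (⟨w, hp⟩ : (pW G V p).toScheme) ∈ I.support) (J_comap hle p)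
  simp only [Scheme.IdealSheafData.support_comap] at h
  exact (Iff.of_eq h).2 (show (pW G V p).ι ⟨w, hp⟩ |> V.ι |> (· ∈ (fitData G.s p).support) from interior_subset hp.1)

include hV in
theorem J_invariant : (J G V).comap (GrpdLib.rS G V) = (J G V).comap (GrpdLib.rT G V (hV)) := by
  refine eq_of_comap_opens (fun p => GrpdLib.rS G V ⁻¹ᵁ pW G V p) ?_ _ _ fun p => ?_
  · refine eq_top_iff.2 fun z _ => ?_
    obtain ⟨p, hp⟩ := exists_mem_pW hle (GrpdLib.rS G V z)
    exact Opens.mem_iSup.2 ⟨p, hp⟩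
  · let O := GrpdLib.rS G V ⁻¹ᵁ pW G V p
    have hs : ∀ z : O.toScheme, (O.ι ≫ GrpdLib.rS G V) z ∈ pW G V p := fun z => z.2
    have ht : ∀ z : O.toScheme, (O.ι ≫ GrpdLib.rT G V (hV)) z ∈ pW G V p := fun z => by
      show V.ι ((GrpdLib.rT G V (hV)) (O.ι z)) ∈ T G p
      rw [← Scheme.Hom.comp_apply, GrpdLib.rT_ι, Scheme.Hom.comp_apply]
      refine (T_invariant hV hle _ ((O.ι z).2) p).1 ?_
      have h1 : V.ι (GrpdLib.rS G V (O.ι z)) ∈ T G p := z.2
      rwa [← Scheme.Hom.comp_apply, GrpdLib.rS_ι, Scheme.Hom.comp_apply] at h1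
    rw [← Scheme.IdealSheafData.comap_comp, ← Scheme.IdealSheafData.comap_comp, J_comap_of_range hle _ p hs,
      J_comap_of_range hle _ p ht, Category.assoc, Category.assoc, GrpdLib.rS_ι, GrpdLib.rT_ι,
      Scheme.IdealSheafData.comap_comp, Scheme.IdealSheafData.comap_comp, Scheme.IdealSheafData.comap_comp,
      Scheme.IdealSheafData.comap_comp, fitData_invariant]

include hV in
theorem exists_iso : ∃ φ : pullback G.s ((J G V).subschemeι ≫ V.ι) ≅ pullback G.t ((J G V).subschemeι ≫ V.ι),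
    φ.hom ≫ pullback.fst G.t ((J G V).subschemeι ≫ V.ι) = pullback.fst G.s ((J G V).subschemeι ≫ V.ι) := by
  obtain ⟨φ, hφ⟩ := exists_iso_of_comap_eq _ _ (J G V) ((J_invariant hV hle))
  have hS : IsPullback (G.s ⁻¹ᵁ V).ι (GrpdLib.rS G V) G.s V.ι :=
    (isPullback_morphismRestrict G.s V).flip
  have hT : IsPullback (G.s ⁻¹ᵁ V).ι (GrpdLib.rT G V (hV)) G.t V.ι := by
    have h0 : IsPullback (G.t ⁻¹ᵁ V).ι (G.t ∣_ V) G.t V.ι := (isPullback_morphismRestrict G.t V).flip
    refine h0.of_iso (G.R.isoOfEq (hV).symm) (Iso.refl _) (Iso.refl _) (Iso.refl _) ?_ ?_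
      (by simp) (by simp)
    · simp
    · rw [← cancel_mono V.ι]
      simp [GrpdLib.rT_ι]
  have h1 := (IsPullback.of_hasPullback (GrpdLib.rS G V) (J G V).subschemeι).paste_horiz hS
  have h2 := (IsPullback.of_hasPullback (GrpdLib.rT G V (hV)) (J G V).subschemeι).paste_horiz hT
  refine ⟨h1.isoPullback.symm ≪≫ φ ≪≫ h2.isoPullback, ?_⟩
  rw [Iso.trans_hom, Iso.trans_hom, Category.assoc, Category.assoc, h2.isoPullback_hom_fst, ← Category.assoc φ.hom,
    hφ, Iso.symm_hom, h1.isoPullback_inv_fst]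

theorem finLocFree_s : Mor2.IsFinLocFree (pullback.snd G.s ((J G V).subschemeι ≫ V.ι)) := by
  let ι' := (J G V).subschemeι ≫ V.ι
  let O : ℕ → (J G V).subscheme.Opens := fun p => (J G V).subschemeι ⁻¹ᵁ pW G V p
  have hO : ⨆ p, O p = ⊤ := eq_top_iff.2 fun z _ => by
    obtain ⟨p, hp⟩ := exists_mem_pW hle ((J G V).subschemeι z)
    exact Opens.mem_iSup.2 ⟨p, hp⟩
  have key : ∀ p, Flat (pullback.snd G.s ι' ∣_ O p) ∧ LocallyOfFinitePresentation (pullback.snd G.s ι' ∣_ O p) := by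
    intro p
    have hd : Mor2.IsFinLocFreeOfDeg (p + 1) (pullback.snd G.s ((O p).ι ≫ ι')) := by
      refine stratum G.s _ p ?_ ?_
      · have h1 : (J G V).comap ((O p).ι ≫ (J G V).subschemeι) = ⊥ := comap_eq_bot_of_factors _ _
        rw [J_comap_of_range hle ((O p).ι ≫ (J G V).subschemeι) p (fun z => z.2)] at h1
        exact h1
      · refine comap_eq_top_of_disjoint _ _ fun (z : (O p).toScheme) => ?_
        have h : z.1 ∈ O p := z.2
        exact h.2
    have h : IsPullback ((pullback.snd G.s ι' ⁻¹ᵁ O p).ι ≫ pullback.fst G.s ι') (pullback.snd G.s ι' ∣_ O p)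
        G.s ((O p).ι ≫ ι') :=
      (isPullback_morphismRestrict (pullback.snd G.s ι') (O p)).flip.paste_horiz (IsPullback.of_hasPullback G.s ι')
    haveI := hd.1.2.1
    haveI := hd.1.2.2
    rw [← h.isoPullback_hom_snd]
    exact ⟨inferInstance, inferInstance⟩
  exact ⟨inferInstance, (IsZariskiLocalAtTarget.iff_of_iSup_eq_top (P := @Flat) _ hO).2 fun p => (key p).1,
    (IsZariskiLocalAtTarget.iff_of_iSup_eq_top (P := @LocallyOfFinitePresentation) _ hO).2 fun p => (key p).2⟩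

theorem finLocFree_t : Mor2.IsFinLocFree (pullback.snd G.t ((J G V).subschemeι ≫ V.ι)) := by
  let ι' := (J G V).subschemeι ≫ V.ι
  haveI : IsIso G.i := ⟨G.i, GrpdLib.i_i G, GrpdLib.i_i G⟩
  have h : IsPullback (pullback.fst G.t ι' ≫ G.i) (pullback.snd G.t ι') G.s ι' := by
    have h0 : IsPullback G.i G.t G.s (𝟙 G.U) := IsPullback.of_horiz_isIso ⟨by rw [G.i_s, Category.comp_id]⟩
    have := (IsPullback.of_hasPullback G.t ι').paste_horiz h0
    rwa [Category.comp_id] at this
  obtain ⟨h1, h2, h3⟩ := finLocFree_s hle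
  rw [← h.isoPullback_hom_snd]
  haveI := h1
  haveI := h2
  haveI := h3
  exact ⟨inferInstance, inferInstance, inferInstance⟩

end

theorem meets_closure (u : G.U) : ∃ r : G.R, G.t r = u ∧ G.s r ∈ closure (W G : Set G.U) := by
  classical
  by_contra hcon
  simp only [not_exists, not_and] at hcon
  let V : G.U.Opens := ⟨(closure (W G : Set G.U))ᶜ, isClosed_closure.isOpen_compl⟩
  let M := GrpdLib.core G V
  have huM : u ∈ M := (GrpdLib.mem_core_iff G _ _).2 fun r hr => by
    obtain ⟨r', h₁, h₂⟩ := GrpdLib.exists_inv G r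
    exact fun hc => hcon r' (h₁.trans hr) (h₂ ▸ hc)
  have hex : ∃ n, ∃ x ∈ M, x ∉ (fitData G.s (n + 1)).support := by
    obtain ⟨k, hk⟩ := exists_notMem_support G.s u
    exact ⟨k, u, huM, fun h => hk (Scheme.IdealSheafData.support_antitone (fitData_mono G.s (Nat.le_succ k)) h)⟩
  obtain ⟨x, hxM, hx⟩ := Nat.find_spec hex
  let M' : G.U.Opens := M ⊓ (fitData G.s (Nat.find hex + 1)).support.compl
  have hM' : ∀ y ∈ M', y ∈ T G (Nat.find hex) := by
    intro y hy
    have hsub : (M' : Set G.U) ⊆ (fitData G.s (Nat.find hex)).support := by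
      intro z hz
      rcases Nat.eq_zero_or_pos (Nat.find hex) with h0 | h0
      · rw [h0, fitData_zero_eq_bot]; trivial
      · by_contra hz'
        refine Nat.find_min hex (Nat.sub_one_lt (by omega)) ⟨z, hz.1, ?_⟩
        rwa [Nat.sub_add_cancel h0]
    exact ⟨interior_maximal hsub M'.2 hy, hy.2⟩
  have hxW : x ∈ W G := (GrpdLib.mem_core_iff G _ _).2 fun r hr => by
    refine Opens.mem_iSup.2 ⟨Nat.find hex, hM' _ ⟨?_, ?_⟩⟩
    · show r ∈ G.t ⁻¹ᵁ M
      rw [← GrpdLib.core_invariant G V]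
      show G.s r ∈ M
      rw [hr]; exact hxM
    · intro h
      exact hx (hr ▸ (support_invariant G _ r).2 h)
  exact GrpdLib.core_le G V hxM (subset_closure hxW)

omit [IsFinite G.t] in
theorem fitData_fg [LocallyOfFinitePresentation G.s] (k : ℕ) (U : G.U.affineOpens) :
    ((fitData G.s k).ideal U).FG := by
  classical
  haveI := finite_sections G.s U.2
  letI := (G.s.app U.1).hom.toAlgebra
  haveI : Algebra.FinitePresentation Γ(G.U, U.1) Γ(G.R, G.s ⁻¹ᵁ U.1) := by
    refine RingHom.finitePresentation_algebraMap.1 ?_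
    show (G.s.app U.1).hom.FinitePresentation
    rw [← Scheme.Hom.appLE_eq_app]
    exact G.s.finitePresentation_appLE U.2 (U.2.preimage G.s) le_rfl
  haveI := Module.FinitePresentation.of_finite_of_finitePresentation Γ(G.U, U.1) Γ(G.R, G.s ⁻¹ᵁ U.1)
  obtain ⟨n, x, hx⟩ := FittLib.exists_generators Γ(G.U, U.1) Γ(G.R, G.s ⁻¹ᵁ U.1)
  let π := Fintype.linearCombination Γ(G.U, U.1) x
  have hπ : Function.Surjective π := by
    rw [← LinearMap.range_eq_top, Fintype.range_linearCombination, hx]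
  obtain ⟨gens, hg⟩ := Module.FinitePresentation.fg_ker π hπ
  show (Fitt.ideal Γ(G.U, U.1) Γ(G.R, G.s ⁻¹ᵁ U.1) k).FG
  rw [FittLib.ideal_eq_minors x hx]
  have hmem : ∀ g : gens, (g : Fin n → Γ(G.U, U.1)) ∈ FittLib.rel Γ(G.U, U.1) x := fun g =>
    hg.le (Submodule.subset_span g.2)
  refine ⟨(Finset.univ : Finset ((Fin (Fintype.card (Fin n) - k) → gens) × (Fin (Fintype.card (Fin n) - k) → Fin n))).image
    fun ze => FittLib.minor (fun j => (ze.1 j).1) ze.2, le_antisymm ?_ ?_⟩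
  · rw [Ideal.span_le]
    intro d hd
    simp only [Finset.coe_image, Set.mem_image] at hd
    obtain ⟨⟨z, e⟩, -, rfl⟩ := hd
    exact FittLib.minor_mem_minors (fun j => hmem (z j)) e
  · refine FittLib.minors_le_of_span (gens : Set (Fin n → Γ(G.U, U.1))) hg.ge fun z e hz => ?_
    exact Ideal.subset_span (Finset.mem_coe.2 (Finset.mem_image.2 ⟨(fun j => ⟨z j, hz j⟩, e), Finset.mem_univ _, rfl⟩))

theorem lfp {V : G.U.Opens} (hle : V ≤ ⨆ r, T G r) [LocallyOfFinitePresentation G.s] : LocallyOfFinitePresentation (J G V).subschemeι := by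
  refine lfp_subschemeι _ fun w => ?_
  obtain ⟨p, hp⟩ := exists_mem_pW hle w
  obtain ⟨A, hA, hwA, hAp⟩ := exists_isAffineOpen_mem_and_subset hp
  have hA' : IsAffineOpen (V.ι ''ᵁ A) := hA.image_of_isOpenImmersion _
  refine ⟨⟨A, hA⟩, hwA, ?_⟩
  have h1 : (J G V).ideal ⟨A, hA⟩ = ((fitData G.s p).comap V.ι).ideal ⟨A, hA⟩ := by
    refine FittLib.idealSpec_injective _ ?_
    rw [← FittLib.comap_fromSpec, ← FittLib.comap_fromSpec, comap_fromSpec_eq, comap_fromSpec_eq,
      ← Scheme.homOfLE_ι _ hAp, Scheme.IdealSheafData.comap_comp,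
      Scheme.IdealSheafData.comap_comp ((fitData G.s p).comap V.ι), J_comap hle]
  rw [h1, FittLib.comap_ideal V.ι _ hA' hA (by rw [Scheme.Hom.preimage_image_eq])]
  exact (fitData_fg G p _).map _

theorem generic_mem [LocallyOfFinitePresentation G.s] (u : G.U)
    (hu : ∀ r : G.R, G.s r = u → ∀ x : G.U, x ⤳ G.t r → x = G.t r) : u ∈ W G := by
  classical
  refine (GrpdLib.mem_core_iff G _ _).2 fun r hr => ?_
  have hex : ∃ n, G.t r ∉ (fitData G.s (n + 1)).support := by
    obtain ⟨k, hk⟩ := exists_notMem_support G.s (G.t r)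
    exact ⟨k, fun h => hk (Scheme.IdealSheafData.support_antitone (fitData_mono G.s (Nat.le_succ k)) h)⟩
  refine Opens.mem_iSup.2 ⟨Nat.find hex, ?_, Nat.find_spec hex⟩
  have hmem : G.t r ∈ (fitData G.s (Nat.find hex)).support := by
    rcases Nat.eq_zero_or_pos (Nat.find hex) with h0 | h0
    · rw [h0, fitData_zero_eq_bot]; trivial
    · by_contra hz'
      refine Nat.find_min hex (Nat.sub_one_lt (by omega)) ?_
      rwa [Nat.sub_add_cancel h0]
  obtain ⟨U, hU, hxU, -⟩ := exists_isAffineOpen_mem_and_subset (show G.t r ∈ (⊤ : G.U.Opens) from trivial)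
  exact mem_interior_support _ (fitData_fg G _ ⟨U, hU⟩) hxU hmem (hu r hr)

end Groth.Agent.GrpdFit
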